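import Mathlib
import Groth.Prelude.Def_W4stkdualitygroupp2Univ

/-! The universal algebra of `n` equations in `n` unknowns is a polynomial ring over `ℤ`. -/

namespace Groth.Agent.UnivRegular

open MvPolynomial Synt

/-- The exponent zero. -/
def zeroIdx (n d : ℕ) : UnivIdx n d := ⟨fun _ => 0, by simp⟩

lemma exponent_zeroIdx (n d : ℕ) : (zeroIdx n d).exponent = 0 := by
  ext i; rfl

/-- The free variables. -/
abbrev Var (n d : ℕ) := {p : Fin n × UnivIdx n d // p.2 ≠ zeroIdx n d} ⊕ Fin n

/-- The polynomial ring on the free variables. -/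
abbrev Free (n d : ℕ) := MvPolynomial (Var n d) ℤ

variable (n d : ℕ)

/-- The coefficient of `x^E` in the `i`-th polynomial, before eliminating. -/
noncomputable def tail (i : Fin n) : Free n d :=
  ∑ E ∈ Finset.univ.erase (zeroIdx n d), (if h : E ≠ zeroIdx n d then
    X (Sum.inl (⟨(i, E), h⟩ : {p : Fin n × UnivIdx n d // p.2 ≠ zeroIdx n d})) else 0) *
    E.exponent.prod fun j k => (X (Sum.inr j) : Free n d) ^ k

/-- The substitution on coefficients. -/
noncomputable def coeffMap : UnivBase n d →+* Free n d :=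
  eval₂Hom (Int.castRingHom _) fun p => if h : p.2 ≠ zeroIdx n d then X (Sum.inl ⟨p, h⟩)
    else - tail n d p.1

/-- The substitution. -/
noncomputable def subst : MvPolynomial (Fin n) (UnivBase n d) →+* Free n d :=
  eval₂Hom (coeffMap n d) fun j => X (Sum.inr j)

lemma subst_univPoly (i : Fin n) : subst n d (univPoly n d i) = 0 := by
  classical
  rw [univPoly, map_sum, ← Finset.add_sum_erase _ _ (Finset.mem_univ (zeroIdx n d))]
  have h0 : subst n d (monomial (zeroIdx n d).exponent (X (i, zeroIdx n d))) = - tail n d i := by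
    rw [subst, eval₂Hom_monomial, exponent_zeroIdx, Finsupp.prod_zero_index, mul_one, coeffMap,
      eval₂Hom_X', dif_neg (by simp)]
  rw [h0, tail, neg_add_eq_zero]
  refine Finset.sum_congr rfl fun E hE => ?_
  have hE' : E ≠ zeroIdx n d := (Finset.mem_erase.mp hE).1
  rw [subst, eval₂Hom_monomial, coeffMap, eval₂Hom_X', dif_pos hE', dif_pos hE']

/-- `B → ℤ[free variables]`. -/
noncomputable def toFree : UnivAlg n d →+* Free n d :=
  Ideal.Quotient.lift (univIdeal n d) (subst n d) fun a ha => by
    have hle : univIdeal n d ≤ RingHom.ker (subst n d) :=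
      Ideal.span_le.mpr fun _ ⟨i, hi⟩ => by rw [← hi]; exact RingHom.mem_ker.mpr (subst_univPoly n d i)
    exact hle ha

/-- The quotient map as a ring map. -/
noncomputable def q : MvPolynomial (Fin n) (UnivBase n d) →+* UnivAlg n d :=
  Ideal.Quotient.mk (univIdeal n d)

lemma q_univPoly (i : Fin n) : q n d (univPoly n d i) = 0 :=
  Ideal.Quotient.eq_zero_iff_mem.mpr (Ideal.subset_span ⟨i, rfl⟩)

lemma toFree_q (p : MvPolynomial (Fin n) (UnivBase n d)) : toFree n d (q n d p) = subst n d p := rfl

/-- `ℤ[free variables] → B`. -/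
noncomputable def ofFree : Free n d →+* UnivAlg n d :=
  eval₂Hom (Int.castRingHom _) fun v => q n d (Sum.elim (fun p => C (X p.1)) (fun j => X j) v)

lemma toFree_comp_ofFree : (toFree n d).comp (ofFree n d) = RingHom.id _ := by
  apply MvPolynomial.ringHom_ext' (RingHom.ext_int _ _)
  rintro (⟨⟨i, E⟩, h⟩ | j)
  · rw [RingHom.comp_apply, ofFree, eval₂Hom_X', Sum.elim_inl, toFree_q, subst, eval₂Hom_C,
      coeffMap, eval₂Hom_X', dif_pos h]
    rfl
  · rw [RingHom.comp_apply, ofFree, eval₂Hom_X', Sum.elim_inr, toFree_q, subst, eval₂Hom_X']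
    rfl

lemma ofFree_comp_toFree : (ofFree n d).comp (toFree n d) = RingHom.id _ := by
  classical
  suffices h : ((ofFree n d).comp (subst n d)) = q n d by
    refine RingHom.ext fun x => ?_
    obtain ⟨p, rfl⟩ := Ideal.Quotient.mk_surjective x
    exact RingHom.congr_fun h p
  have hx : ∀ j, ofFree n d (X (Sum.inr j)) = q n d (X j) := fun j => by
    rw [ofFree, eval₂Hom_X', Sum.elim_inr]
  have ha : ∀ (i : Fin n) (E : UnivIdx n d) (h : E ≠ zeroIdx n d),
      ofFree n d (X (Sum.inl (⟨(i, E), h⟩ : {p : Fin n × UnivIdx n d // p.2 ≠ zeroIdx n d}))) =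
        q n d (C (X (i, E))) := fun i E h => by
    rw [ofFree, eval₂Hom_X', Sum.elim_inl]
  refine MvPolynomial.ringHom_ext' ?_ fun j => ?_
  · refine MvPolynomial.ringHom_ext' (RingHom.ext_int _ _) fun ⟨i, E⟩ => ?_
    rw [RingHom.comp_apply, RingHom.comp_apply, subst, eval₂Hom_C, coeffMap, eval₂Hom_X',
      RingHom.comp_apply]
    by_cases hE : E ≠ zeroIdx n d
    · rw [dif_pos hE]; exact ha i E hE
    · rw [dif_neg hE, map_neg, not_not.mp hE]
      have h0 := q_univPoly n d i
      rw [univPoly, map_sum, ← Finset.add_sum_erase _ _ (Finset.mem_univ (zeroIdx n d))] at h0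
      rw [exponent_zeroIdx, ← C_apply] at h0
      rw [neg_eq_iff_add_eq_zero, add_comm]
      convert h0 using 2
      rw [tail, map_sum]
      refine Finset.sum_congr rfl fun E' hE' => ?_
      rw [dif_pos (Finset.mem_erase.mp hE').1, map_mul, ha, map_finsuppProd, monomial_eq, map_mul,
        map_finsuppProd]
      congr 1
      refine Finsupp.prod_congr fun j _ => ?_
      rw [map_pow, map_pow, hx]
  · rw [RingHom.comp_apply, subst, eval₂Hom_X', hx]

/-- The universal algebra is a polynomial ring. -/
noncomputable def equiv : UnivAlg n d ≃+* Free n d :=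
  RingEquiv.ofRingHom (toFree n d) (ofFree n d) (toFree_comp_ofFree n d) (ofFree_comp_toFree n d)

theorem main (n d : ℕ) : IsDomain (UnivAlg n d) ∧
    ∀ q : PrimeSpectrum (UnivAlg n d), IsRegularLocalRing (Localization.AtPrime q.asIdeal) := by
  haveI : IsDomain (UnivAlg n d) := (equiv n d).toMulEquiv.isDomain (Free n d)
  haveI : IsRegularRing (UnivAlg n d) := IsRegularRing.of_ringEquiv (equiv n d).symm
  exact ⟨inferInstance, fun q => inferInstance⟩

end Groth.Agent.UnivRegular
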