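import Mathlib
import Groth.Prelude.Def_W4stkdualitygroupp2Univ

/-! The universal algebra has an étale, quasi-finite point. -/

namespace Groth.Agent.UnivRegular

open MvPolynomial

universe u

theorem exists_point {A : Type u} [CommRing A] {n : ℕ} (P : Fin n → MvPolynomial (Fin n) A)
    {k : Type*} [Field k] (σ : MvPolynomial (Fin n) A →+* k) (h0 : ∀ i, σ (P i) = 0)
    (hJ : (Matrix.of fun i j => σ (pderiv i (P j))).det ≠ 0) :
    ∃ q : PrimeSpectrum (MvPolynomial (Fin n) A ⧸ Ideal.span (Set.range P)),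
      Algebra.QuasiFiniteAt A q.asIdeal ∧ Algebra.IsEtaleAt A q.asIdeal := by
  set E₀ := MvPolynomial (Fin n) A ⧸ Ideal.span (Set.range P)
  let P₀ : Algebra.PreSubmersivePresentation A E₀ (Fin n) (Fin n) :=
    Algebra.PreSubmersivePresentation.naive (v := P) id Function.injective_id
  set E₁ := Localization.Away P₀.jacobian
  let Q := Algebra.PreSubmersivePresentation.localizationAway E₁ P₀.jacobian
  let S : Algebra.SubmersivePresentation A E₁ (Unit ⊕ Fin n) (Unit ⊕ Fin n) :=
    { Q.comp P₀ with
      jacobian_isUnit := by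
        rw [Algebra.PreSubmersivePresentation.comp_jacobian_eq_jacobian_smul_jacobian,
          Algebra.smul_def, IsUnit.mul_iff]
        exact ⟨IsLocalization.map_units E₁ (⟨P₀.jacobian, 1, by simp⟩ : Submonoid.powers P₀.jacobian),
          (Algebra.SubmersivePresentation.localizationAway E₁ P₀.jacobian).jacobian_isUnit⟩ }
  haveI : Algebra.IsStandardSmoothOfRelativeDimension 0 A E₁ :=
    S.isStandardSmoothOfRelativeDimension (by simp [Algebra.Presentation.dimension])
  haveI : Algebra.Etale A E₁ :=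
    Algebra.Etale.iff_isStandardSmoothOfRelativeDimension_zero.mpr inferInstance
  let σ₀ : E₀ →+* k := Ideal.Quotient.lift _ σ fun p hp => by
    have : Ideal.span (Set.range P) ≤ RingHom.ker σ := Ideal.span_le.mpr (by rintro _ ⟨i, rfl⟩; exact h0 i)
    exact this hp
  have hσ₀ : ∀ p, σ₀ (Ideal.Quotient.mk _ p) = σ p := fun p => rfl
  have hjac : σ₀ P₀.jacobian ≠ 0 := by
    rw [Algebra.PreSubmersivePresentation.jacobian_eq_jacobiMatrix_det,
      show algebraMap P₀.Ring E₀ P₀.jacobiMatrix.det = Ideal.Quotient.mk _ P₀.jacobiMatrix.det from rfl,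
      hσ₀, RingHom.map_det]
    convert hJ using 2
    ext i j
    simp only [Matrix.of_apply, RingHom.mapMatrix_apply, Matrix.map_apply,
      Algebra.PreSubmersivePresentation.jacobiMatrix_apply]
    rfl
  refine ⟨⟨RingHom.ker σ₀, RingHom.ker_isPrime σ₀⟩, ?_⟩
  set q := RingHom.ker σ₀
  haveI : q.IsPrime := RingHom.ker_isPrime σ₀
  have hu : IsUnit (algebraMap E₀ (Localization.AtPrime q) P₀.jacobian) :=
    IsLocalization.map_units _ (⟨P₀.jacobian, hjac⟩ : q.primeCompl)
  letI : Algebra E₁ (Localization.AtPrime q) := (IsLocalization.Away.lift P₀.jacobian hu).toAlgebra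
  haveI : IsScalarTower E₀ E₁ (Localization.AtPrime q) :=
    IsScalarTower.of_algebraMap_eq fun x => (IsLocalization.Away.lift_eq P₀.jacobian hu x).symm
  haveI : IsScalarTower A E₁ (Localization.AtPrime q) := IsScalarTower.of_algebraMap_eq fun a => by
    rw [IsScalarTower.algebraMap_apply A E₀ E₁, ← IsScalarTower.algebraMap_apply E₀ E₁,
      ← IsScalarTower.algebraMap_apply]
  have hle : Submonoid.powers P₀.jacobian ≤ q.primeCompl :=
    Submonoid.powers_le.mpr (show P₀.jacobian ∈ q.primeCompl from hjac)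
  haveI : IsLocalization (q.primeCompl.map (algebraMap E₀ E₁)) (Localization.AtPrime q) :=
    IsLocalization.isLocalization_of_submonoid_le E₁ (Localization.AtPrime q)
      (Submonoid.powers P₀.jacobian) q.primeCompl hle
  haveI : Algebra.QuasiFinite A E₁ :=
    ⟨fun p _ => Algebra.FormallyUnramified.finite_of_free p.ResidueField _⟩
  haveI : Algebra.FormallyEtale E₁ (Localization.AtPrime q) :=
    Algebra.FormallyEtale.of_isLocalization (q.primeCompl.map (algebraMap E₀ E₁))
  exact ⟨Algebra.QuasiFinite.of_isLocalization (S := E₁) (q.primeCompl.map (algebraMap E₀ E₁)),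
    Algebra.FormallyEtale.comp A E₁ (Localization.AtPrime q)⟩

/-- The index of the exponent `e_i`. -/
def unitIdx {n d : ℕ} (hd : 1 ≤ d) (i : Fin n) : Synt.UnivIdx n d :=
  ⟨Pi.single i ⟨1, by omega⟩, by
    rw [Finset.sum_eq_single i (fun j _ hj => by simp [hj]) (by simp), Pi.single_eq_same]
    exact hd⟩

lemma exponent_unitIdx {n d : ℕ} (hd : 1 ≤ d) (i : Fin n) :
    (unitIdx hd i).exponent = Finsupp.single i 1 := by
  ext j
  by_cases h : j = i
  · subst h; simp [Synt.UnivIdx.exponent, unitIdx]
  · simp [Synt.UnivIdx.exponent, unitIdx, h, Ne.symm h]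

theorem main_etale (n d : ℕ) (hd : 1 ≤ d) : ∃ q : PrimeSpectrum (Synt.UnivAlg n d),
    Algebra.QuasiFiniteAt (Synt.UnivBase n d) q.asIdeal ∧
      Algebra.IsEtaleAt (Synt.UnivBase n d) q.asIdeal := by
  classical
  let φ : Synt.UnivBase n d →+* ℚ :=
    eval₂Hom (Int.castRingHom ℚ) fun p => if p.2 = unitIdx hd p.1 then 1 else 0
  let σ : MvPolynomial (Fin n) (Synt.UnivBase n d) →+* ℚ :=
    (constantCoeff : MvPolynomial (Fin n) ℚ →+* ℚ).comp (map φ)
  have hP : ∀ i, map φ (Synt.univPoly n d i) = X i := by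
    intro i
    rw [Synt.univPoly, map_sum, Finset.sum_eq_single (unitIdx hd i)]
    · rw [map_monomial, exponent_unitIdx]
      simp [φ, X]
    · intro E _ hE
      rw [map_monomial]
      simp [φ, hE]
    · simp
  refine exists_point (Synt.univPoly n d) σ (fun i => ?_) ?_
  · show constantCoeff (map φ (Synt.univPoly n d i)) = 0
    rw [hP, constantCoeff_X]
  · have : (Matrix.of fun i j => σ (pderiv i (Synt.univPoly n d j))) = (1 : Matrix (Fin n) (Fin n) ℚ) := by
      ext i j
      rw [Matrix.of_apply]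
      show constantCoeff (map φ (pderiv i (Synt.univPoly n d j))) = _
      rw [← pderiv_map, hP, Matrix.one_apply]
      by_cases h : i = j
      · subst h; simp
      · rw [pderiv_X_of_ne (Ne.symm h), map_zero, if_neg h]
    rw [this, Matrix.det_one]
    exact one_ne_zero

end Groth.Agent.UnivRegular
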